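import Cfsg.Agent.Lib.Sporadic.OutCert.Suz.Defs

/-!
The permutations, their relations, and the test.
-/

set_option autoImplicit false
set_option maxRecDepth 100000
set_option maxHeartbeats 0
set_option Elab.async false

namespace CfsgLib.Sporadic.OutCert.Suz

theorem valid : validK 11 1782 kPi kPiI = true ∧ validK 11 1782 ka kai = true ∧ validK 11 1782 kn kni = true ∧
    validK 11 1782 kb kbi = true ∧ validK 11 1782 kz kz = true ∧ validK 11 1782 ks ks = true := by decide +kernel

theorem pows : (aPows.head? == some (oneK 11 1782) && ((List.range 10).all fun i =>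
      compK 11 1782 ka (aPows.getD i 0) == aPows.getD (i + 1) 0) &&
      compK 11 1782 ka (aPows.getD 10 0) == oneK 11 1782) = true ∧
    (nPows.head? == some (oneK 11 1782) && ((List.range 9).all fun i =>
      compK 11 1782 kn (nPows.getD i 0) == nPows.getD (i + 1) 0) &&
      compK 11 1782 kn (nPows.getD 9 0) == oneK 11 1782) = true ∧ aPows.length = 11 ∧ nPows.length = 10 := by
  decide +kernel

theorem rels : compK 11 1782 kn ka = compK 11 1782 (aPows.getD 2 0) kn ∧
    compK 11 1782 kb kn = compK 11 1782 (nPows.getD 3 0) kb ∧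
    compK 11 1782 kz kn = compK 11 1782 kn kz ∧
    compK 11 1782 ks ka = compK 11 1782 ka ks ∧
    compK 11 1782 ks kn = compK 11 1782 kn ks ∧
    compK 11 1782 ks kb = compK 11 1782 (compK 11 1782 kb (nPows.getD 5 0)) ks := by decide +kernel

theorem points : lk 11 ka 0 ≠ 0 ∧ ((List.range 11).all fun i => !(lk 11 (aPows.getD i 0) 0 == lk 11 ks 0)) = true ∧
    ((List.range 1782).any fun x => !(lk 11 (nPows.getD 5 0) x == x)) = true := by decide +kernel

theorem test_ok : testK 11 1782 (testWord 0 0) 10 = true ∧
    ((List.range 10).all fun i => (List.range 2).all fun j =>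
      (Nat.beq i 0 && Nat.beq j 0) || (Nat.beq i 5 && Nat.beq j 0) || !testK 11 1782 (testWord i j) 10) = true := by
  decide +kernel

end CfsgLib.Sporadic.OutCert.Suz
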