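import Cfsg.Agent.Lib.Sporadic.OutCert.Suz.Defs
import Cfsg.Agent.Lib.Sporadic.SuzData.SuzTable

/-!
The renumbered generators are those of the action on 1782 points.
-/

set_option autoImplicit false
set_option maxRecDepth 100000
set_option maxHeartbeats 0
set_option Elab.async false

namespace CfsgLib.Sporadic.OutCert.Suz

open CfsgLib.Sporadic.CosetCert

theorem conj_ok : ((List.range 7).all fun x => allF (fun u =>
    lk 11 (sTab.getD x 0) (lk 11 kPi u) == lk 11 kPi (SuzData.table.img x u)) 1782) = true := by decide +kernel

end CfsgLib.Sporadic.OutCert.Suz
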