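import Cfsg.Agent.Lib.Sporadic.OutCert.Suz.Defs

/-!
The element of order 11 and the outer involution preserve adjacency.
-/

set_option autoImplicit false
set_option maxRecDepth 100000
set_option maxHeartbeats 0
set_option Elab.async false

namespace CfsgLib.Sporadic.OutCert.Suz

theorem mask_ok : (List.range 1782).all maskK = true := by decide +kernel

theorem rot_ok : (List.range 1782).all rotK = true := by decide +kernel

theorem block_ok : (List.range 1782).all blockK = true := by decide +kernel

theorem rows_S : ((List.range 162).all fun j => rowK ks (j * 11)) = true := by decide +kernel

end CfsgLib.Sporadic.OutCert.Suz
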