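import Cfsg.Agent.Lib.Sporadic.OutCert.Suz.Defs

/-!
The third element preserves adjacency.
-/

set_option autoImplicit false
set_option maxRecDepth 100000
set_option maxHeartbeats 0
set_option Elab.async false

namespace CfsgLib.Sporadic.OutCert.Suz

theorem cover_ok : (List.range 1782).all coverK = true := by decide +kernel

theorem rows_B : ((List.range 1782).all fun u => !leastK u || rowK kb u) = true := by decide +kernel

end CfsgLib.Sporadic.OutCert.Suz
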