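import Cfsg.Agent.Lib.Sporadic.OutCert.Suz.Defs

/-!
The chosen elements are products of the seven generators.
-/

set_option autoImplicit false
set_option maxRecDepth 100000
set_option maxHeartbeats 0
set_option Elab.async false

namespace CfsgLib.Sporadic.OutCert.Suz

theorem slp_G : slpCheck 11 1782 sTab slpG = true := by decide +kernel

theorem slp_G_at : (slpGAt.all fun i => Nat.blt i (sTab.length + slpG.length)) = true ∧
    slpVal sTab slpG (slpGAt.getD 0 0) = ka ∧ slpVal sTab slpG (slpGAt.getD 1 0) = kn ∧
    slpVal sTab slpG (slpGAt.getD 2 0) = kb ∧ slpVal sTab slpG (slpGAt.getD 3 0) = kz ∧ slpGAt.length = 4 := by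
  decide +kernel

end CfsgLib.Sporadic.OutCert.Suz
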