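import Cfsg.Agent.Lib.Sporadic.SuzPresented
import Cfsg.Agent.Lib.Sporadic.OutCert.Suz.CheckEmbed
import Cfsg.Agent.Lib.Sporadic.OutCert.Suz.Check
import Cfsg.Agent.Lib.Sporadic.OutCert.Suz.CheckInvA
import Cfsg.Agent.Lib.Sporadic.OutCert.Suz.CheckInvN
import Cfsg.Agent.Lib.Sporadic.OutCert.Suz.CheckInvB
import Cfsg.Agent.Lib.Sporadic.OutCert.Suz.CheckSlpG
import Cfsg.Agent.Lib.Sporadic.OutCert.Suz.CheckSlpH

/-!
The Suzuki group as the group generated by three permutations of 1782 points preserving adjacency.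
-/

set_option autoImplicit false
set_option maxRecDepth 10000

namespace CfsgLib.Sporadic.OutCert.Suz

open CfsgLib.Sporadic.CosetCert

attribute [local irreducible] lk pkF allF compK oneK kPi kPiI ka kai kn kni kb kbi kz ks aPows nPows sTab slpG slpH
  rowAt rot

/-- Permutations of the points. -/
abbrev P : Type := Equiv.Perm (Fin 1782)

theorem hw : 1782 ≤ 2 ^ 11 := by norm_num

/-- The renumbering. -/
noncomputable def pPi : P := permOf kPi kPiI valid.1

/-- The element of order 11. -/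
noncomputable def pA : P := permOf ka kai valid.2.1

/-- The element of order 10. -/
noncomputable def pN : P := permOf kn kni valid.2.2.1

/-- The third generator. -/
noncomputable def pB : P := permOf kb kbi valid.2.2.2.1

/-- The involution commuting with the element of order 10. -/
noncomputable def pZ : P := permOf kz kz valid.2.2.2.2.1

/-- The outer involution. -/
noncomputable def pS : P := permOf ks ks valid.2.2.2.2.2

theorem rep_A : Rep 11 1782 ka pA := rep_permOf _
theorem rep_N : Rep 11 1782 kn pN := rep_permOf _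
theorem rep_B : Rep 11 1782 kb pB := rep_permOf _
theorem rep_Z : Rep 11 1782 kz pZ := rep_permOf _
theorem rep_S : Rep 11 1782 ks pS := rep_permOf _

theorem S_sq : pS * pS = 1 := by
  have h : pS = pS⁻¹ := rep_S.inj (rep_permOf_inv _)
  nth_rewrite 2 [h]
  exact mul_inv_cancel _

theorem Z_sq : pZ * pZ = 1 := by
  have h : pZ = pZ⁻¹ := rep_Z.inj (rep_permOf_inv _)
  nth_rewrite 2 [h]
  exact mul_inv_cancel _

theorem table_N : SuzData.table.N = 1782 := rfl

/-- The action after renumbering. -/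
noncomputable def psi : Cfsg.Spor.Suz →* P :=
  ((finCongr table_N).trans pPi).permCongrHom.toMonoidHom.comp SuzP.hom

theorem psi_apply (g : Cfsg.Spor.Suz) (u : Fin SuzData.table.N) :
    psi g (pPi (finCongr table_N u)) = pPi (finCongr table_N (SuzP.hom g u)) := by
  simp [psi, Equiv.permCongrHom, Equiv.permCongr_apply]

theorem psi_injective : Function.Injective psi :=
  ((finCongr table_N).trans pPi).permCongrHom.injective.comp SuzP.card_eq.2

theorem rep_gen {x : ℕ} (hx : x < 7) : Rep 11 1782 (sTab.getD x 0) (psi (SuzP.coding.gen x)) := by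
  intro i
  obtain ⟨u, rfl⟩ := ((finCongr table_N).trans pPi).surjective i
  show lk 11 _ ((pPi (finCongr table_N u) : Fin 1782) : ℕ) = ((psi _ (pPi (finCongr table_N u)) : Fin 1782) : ℕ)
  rw [psi_apply]
  have h := allF_iff.1 (List.all_eq_true.1 conj_ok x (List.mem_range.2 hx)) u u.2
  rw [beq_iff_eq] at h
  have e1 : ((pPi (finCongr table_N u) : Fin 1782) : ℕ) = lk 11 kPi (u : ℕ) :=
    ((rep_permOf valid.1) (finCongr table_N u)).symm
  have e2 : ((pPi (finCongr table_N (SuzP.hom (SuzP.coding.gen x) u)) : Fin 1782) : ℕ) =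
      lk 11 kPi (SuzData.table.img x u) := by
    rw [← SuzP.hom_acts.img_eq x hx u]
    exact ((rep_permOf valid.1) _).symm
  rw [e1, e2, h]

/-- The group generated by the three permutations. -/
noncomputable def H : Subgroup P := Subgroup.closure {pA, pN, pB}

theorem A_mem : pA ∈ H := Subgroup.subset_closure (by simp)
theorem N_mem : pN ∈ H := Subgroup.subset_closure (by simp)
theorem B_mem : pB ∈ H := Subgroup.subset_closure (by simp)

theorem range_le : psi.range ≤ H := by
  have hs := slp_sound hw slp_H (S := H) fun i hi => by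
    simp only [List.length_cons, List.length_nil] at hi
    match i, hi with
    | 0, _ => exact ⟨pA, A_mem, rep_A⟩
    | 1, _ => exact ⟨pN, N_mem, rep_N⟩
    | 2, _ => exact ⟨pB, B_mem, rep_B⟩
  rw [MonoidHom.range_eq_map, ← SuzP.coding.closure_gen_eq_top, MonoidHom.map_closure, Subgroup.closure_le]
  rintro _ ⟨_, ⟨x, hx, rfl⟩, rfl⟩
  have hx7 : x < 7 := hx
  have hlt : slpHAt.getD x 0 < [ka, kn, kb].length + slpH.length := by
    rw [List.getD_eq_getElem _ _ (by rw [slp_H_at.2.1]; exact hx7)]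
    have h := List.all_eq_true.1 slp_H_at.1 _ (List.getElem_mem (by rw [slp_H_at.2.1]; exact hx7))
    simpa [Nat.blt_eq] using h
  obtain ⟨g, hg, hr⟩ := hs _ hlt
  rw [beq_iff_eq.1 (List.all_eq_true.1 slp_H_at.2.2.2 x (List.mem_range.2 hx7))] at hr
  exact (hr.inj (rep_gen hx7)) ▸ hg

theorem chosen_mem : pA ∈ psi.range ∧ pN ∈ psi.range ∧ pB ∈ psi.range ∧ pZ ∈ psi.range := by
  have hs := slp_sound hw slp_G (S := psi.range) fun i hi =>
    ⟨psi (SuzP.coding.gen i), ⟨_, rfl⟩, rep_gen (by rw [slp_H_at.2.2.1] at hi; exact hi)⟩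
  obtain ⟨hall, e0, e1, e2, e3, hlen⟩ := slp_G_at
  have hat : ∀ k < 4, slpGAt.getD k 0 < sTab.length + slpG.length := fun k hk => by
    rw [List.getD_eq_getElem _ _ (by rw [hlen]; exact hk)]
    have h := List.all_eq_true.1 hall _ (List.getElem_mem (by rw [hlen]; exact hk))
    simpa [Nat.blt_eq] using h
  refine ⟨?_, ?_, ?_, ?_⟩
  · obtain ⟨g, hg, hr⟩ := hs _ (hat 0 (by norm_num))
    rw [e0] at hr
    rwa [rep_A.inj hr]
  · obtain ⟨g, hg, hr⟩ := hs _ (hat 1 (by norm_num))
    rw [e1] at hr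
    rwa [rep_N.inj hr]
  · obtain ⟨g, hg, hr⟩ := hs _ (hat 2 (by norm_num))
    rw [e2] at hr
    rwa [rep_B.inj hr]
  · obtain ⟨g, hg, hr⟩ := hs _ (hat 3 (by norm_num))
    rw [e3] at hr
    rwa [rep_Z.inj hr]

theorem H_eq_range : H = psi.range := by
  refine le_antisymm ((Subgroup.closure_le _).2 ?_) range_le
  rintro x (rfl | rfl | rfl)
  · exact chosen_mem.1
  · exact chosen_mem.2.1
  · exact chosen_mem.2.2.1

theorem Z_mem : pZ ∈ H := H_eq_range ▸ chosen_mem.2.2.2

theorem H_spec : Nonempty (Cfsg.Spor.Suz ≃* H) ∧ Nat.card H = 448345497600 := by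
  let f : Cfsg.Spor.Suz ≃* H := (MonoidHom.ofInjective psi_injective).trans (MulEquiv.subgroupCongr H_eq_range.symm)
  exact ⟨⟨f⟩, (Nat.card_congr f.toEquiv).symm.trans SuzP.card_eq.1⟩

theorem pow_rep {n : ℕ} {g : P} (hg : Rep 11 1782 n g) {l : List ℕ} {m : ℕ}
    (h : (l.head? == some (oneK 11 1782) && ((List.range m).all fun i =>
      compK 11 1782 n (l.getD i 0) == l.getD (i + 1) 0) && compK 11 1782 n (l.getD m 0) == oneK 11 1782) = true) :
    (∀ i ≤ m, Rep 11 1782 (l.getD i 0) (g ^ i)) ∧ g ^ (m + 1) = 1 := by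
  simp only [Bool.and_eq_true, List.all_eq_true, List.mem_range, beq_iff_eq] at h
  have hall : ∀ i ≤ m, Rep 11 1782 (l.getD i 0) (g ^ i) := by
    intro i
    induction i with
    | zero =>
      intro _
      cases l with
      | nil => simp at h
      | cons a l =>
        have h1 : a = oneK 11 1782 := by simpa using h.1.1
        rw [pow_zero, List.getD_cons_zero, h1]
        exact rep_one hw
    | succ i ih =>
      intro hi
      rw [← h.1.2 i (by omega), pow_succ']
      exact rep_comp hw hg (ih (by omega))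
  refine ⟨hall, ?_⟩
  have h2 := rep_comp hw hg (hall m le_rfl)
  rw [h.2, ← pow_succ'] at h2
  exact h2.inj (rep_one hw)

theorem rep_aPow {i : ℕ} (hi : i < 11) : Rep 11 1782 (aPows.getD i 0) (pA ^ i) :=
  (pow_rep rep_A pows.1).1 i (by omega)

theorem rep_nPow {i : ℕ} (hi : i < 10) : Rep 11 1782 (nPows.getD i 0) (pN ^ i) :=
  (pow_rep rep_N pows.2.1).1 i (by omega)

theorem A_pow : pA ^ 11 = 1 := (pow_rep rep_A pows.1).2

theorem N_pow : pN ^ 10 = 1 := (pow_rep rep_N pows.2.1).2

theorem N_A : pN * pA = pA ^ 2 * pN :=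
  (rels.1 ▸ rep_comp hw rep_N rep_A).inj (rep_comp hw (rep_aPow (by norm_num)) rep_N)

theorem B_N : pB * pN = pN ^ 3 * pB :=
  (rels.2.1 ▸ rep_comp hw rep_B rep_N).inj (rep_comp hw (rep_nPow (by norm_num)) rep_B)

theorem Z_N : Commute pZ pN := (rels.2.2.1 ▸ rep_comp hw rep_Z rep_N).inj (rep_comp hw rep_N rep_Z)

theorem S_A : Commute pS pA := (rels.2.2.2.1 ▸ rep_comp hw rep_S rep_A).inj (rep_comp hw rep_A rep_S)

theorem S_N : Commute pS pN := (rels.2.2.2.2.1 ▸ rep_comp hw rep_S rep_N).inj (rep_comp hw rep_N rep_S)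

theorem S_B : pS * pB = pB * pN ^ 5 * pS :=
  (rels.2.2.2.2.2 ▸ rep_comp hw rep_S rep_B).inj
    (rep_comp hw (rep_comp hw rep_B (rep_nPow (by norm_num))) rep_S)

/-- The permutations preserving adjacency. -/
noncomputable abbrev Stab : Subgroup P := pairStab adjK

theorem A_stab : pA ∈ Stab := by
  intro u v
  have hu := List.all_eq_true.1 rot_ok u (List.mem_range.2 u.2)
  have hv := List.all_eq_true.1 mask_ok v (List.mem_range.2 v.2)
  rw [rotK, beq_iff_eq] at hu
  show adjK (pA u : ℕ) (pA v : ℕ) = adjK u v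
  rw [← rep_A u, ← rep_A v, adjK, adjK, hu, rot, Nat.testBit_lor, Nat.testBit_land, Nat.testBit_land]
  rw [maskK] at hv
  split_ifs at hv with h
  · simp only [Bool.and_eq_true, Bool.not_eq_true', Nat.beq_eq, Nat.ble_eq] at hv
    obtain ⟨h10, e, hlo, hhi⟩ := hv
    rw [e, hlo, hhi, Bool.and_false, Bool.false_or, Bool.and_true, Nat.testBit_shiftRight]
    congr 1
    omega
  · simp only [Bool.and_eq_true, Bool.not_eq_true', Nat.beq_eq] at hv
    obtain ⟨e, hhi, hlo⟩ := hv
    rw [e, hlo, hhi, Bool.and_false, Bool.or_false, Bool.and_true, Nat.testBit_shiftLeft]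
    simp

theorem mem_of_reps {g : P} (h : ∀ u : Fin 1782, ∃ (α β : P) (r : Fin 1782), α ∈ Stab ∧ β ∈ Stab ∧
    g * α = β * g ∧ α r = u ∧ ∀ v : Fin 1782, adjK (g r) (g v) = adjK r v) : g ∈ Stab := by
  intro u v
  obtain ⟨α, β, r, hα, hβ, hg, rfl, hr⟩ := h u
  have e : ∀ x : Fin 1782, g (α x) = β (g x) := fun x => by
    rw [← Equiv.Perm.mul_apply, hg, Equiv.Perm.mul_apply]
  obtain ⟨w, rfl⟩ := α.surjective v
  show adjK (g (α r) : ℕ) (g (α w) : ℕ) = adjK (α r : ℕ) (α w : ℕ)
  rw [e, e, hβ, hr, hα]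

theorem row_spec {g : P} {k : ℕ} (hg : Rep 11 1782 k g) {r : Fin 1782} (h : rowK k r = true) (v : Fin 1782) :
    adjK (g r) (g v) = adjK r v := by
  have h' := allF_iff.1 h v v.2
  rwa [beq_iff_eq, hg r, hg v] at h'

theorem block (u : Fin 1782) : ∃ r : Fin 1782, (r : ℕ) = u / 11 * 11 ∧ (pA ^ ((u : ℕ) % 11)) r = u := by
  refine ⟨⟨(u : ℕ) / 11 * 11, lt_of_le_of_lt (Nat.div_mul_le_self _ _) u.2⟩, rfl, Fin.ext ?_⟩
  rw [← rep_aPow (Nat.mod_lt _ (by norm_num))]
  exact Nat.eq_of_beq_eq_true (List.all_eq_true.1 block_ok u (List.mem_range.2 u.2))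

theorem conj_A (i : ℕ) : pN * pA ^ i = pA ^ (2 * i) * pN := by
  induction i with
  | zero => simp
  | succ i ih => rw [pow_succ, ← mul_assoc, ih, mul_assoc, N_A, ← mul_assoc, ← pow_add, Nat.mul_succ]

theorem N_stab : pN ∈ Stab := by
  refine mem_of_reps fun u => ?_
  obtain ⟨r, hr, hu⟩ := block u
  refine ⟨pA ^ ((u : ℕ) % 11), pA ^ (2 * ((u : ℕ) % 11)), r, pow_mem A_stab _, pow_mem A_stab _, conj_A _, hu,
    row_spec rep_N ?_⟩
  rw [hr]
  exact List.all_eq_true.1 rows_N _ (List.mem_range.2 (by omega))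

theorem S_stab : pS ∈ Stab := by
  refine mem_of_reps fun u => ?_
  obtain ⟨r, hr, hu⟩ := block u
  refine ⟨pA ^ ((u : ℕ) % 11), pA ^ ((u : ℕ) % 11), r, pow_mem A_stab _, pow_mem A_stab _,
    (S_A.pow_right _).eq, hu, row_spec rep_S ?_⟩
  rw [hr]
  exact List.all_eq_true.1 rows_S _ (List.mem_range.2 (by omega))

theorem conj_N (i : ℕ) : pB * pN ^ i = pN ^ (3 * i) * pB := by
  induction i with
  | zero => simp
  | succ i ih => rw [pow_succ, ← mul_assoc, ih, mul_assoc, B_N, ← mul_assoc, ← pow_add, Nat.mul_succ]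

theorem B_stab : pB ∈ Stab := by
  refine mem_of_reps fun u => ?_
  have h := List.all_eq_true.1 cover_ok u (List.mem_range.2 u.2)
  simp only [coverK, List.any_eq_true, List.mem_range, Bool.and_eq_true, Nat.beq_eq] at h
  obtain ⟨k, hk, m, hm, e, hleast⟩ := h
  rw [rep_nPow hk u] at e hleast
  rw [rep_nPow hm] at e
  refine ⟨pN ^ m, pN ^ (3 * m), (pN ^ k) u, pow_mem N_stab _, pow_mem N_stab _, conj_N _, Fin.ext e,
    row_spec rep_B ?_⟩
  have h' := List.all_eq_true.1 rows_B ((pN ^ k) u : Fin 1782) (List.mem_range.2 ((pN ^ k) u).2)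
  rwa [hleast, Bool.not_true, Bool.false_or] at h'

theorem H_le_stab : H ≤ Stab := by
  refine (Subgroup.closure_le _).2 ?_
  rintro x (rfl | rfl | rfl)
  · exact A_stab
  · exact N_stab
  · exact B_stab

theorem stab_le_cod : Stab ≤ pairStab cod := fun g hg i j => by
  show cod (g i : ℕ) (g j : ℕ) = cod i j
  have h : adjK (g i : ℕ) (g j : ℕ) = adjK i j := hg i j
  rw [cod, cod, h]
  by_cases e : i = j
  · subst e; simp
  · have e' : ¬ g i = g j := fun he => e (g.injective he)
    rw [Fin.ext_iff] at e e'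
    simp [e, e']

end CfsgLib.Sporadic.OutCert.Suz
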