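import Cfsg.Agent.Lib.Sporadic.OutCert.Suz.Defs

/-!
The separating points and the searches for the centralisers.
-/

set_option autoImplicit false
set_option maxRecDepth 100000
set_option maxHeartbeats 0
set_option Elab.async false

namespace CfsgLib.Sporadic.OutCert.Suz

theorem sigA_ok : sigCheck 2 1782 cod qA sigATree = true := by decide +kernel

theorem sigN_ok : sigCheck 2 1782 cod qN sigNTree = true := by decide +kernel

theorem candA_ok : CentDfs.candsK 11 cod aPows 1782 candA = true ∧ (candA.all fun e => Nat.blt e.1 1782) = true := by
  decide +kernel

theorem candN_ok : CentDfs.candsK 11 cod nPows 1782 candN = true ∧ (candN.all fun e => Nat.blt e.1 1782) = true := by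
  decide +kernel

theorem dfsA_ok : CentDfs.dfsK 11 cod aPows allowA candA [] = true := by decide +kernel

theorem dfsN_ok : CentDfs.dfsK 11 cod nPows allowN candN [] = true := by decide +kernel

end CfsgLib.Sporadic.OutCert.Suz
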