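import Cfsg.Agent.Lib.Sporadic.OutCert.Suz.Group
import Cfsg.Agent.Lib.Sporadic.OutCert.Suz.CheckCent

/-!
The centralisers of the elements of order 11 and 10, and the outer involution.
-/

set_option autoImplicit false
set_option maxRecDepth 10000

namespace CfsgLib.Sporadic.OutCert.Suz

attribute [local irreducible] lk pkF allF compK oneK cod rowAt ka kai kn kni kb kbi kz ks aPows nPows candA candN
  sigATree sigNTree

theorem rep_twoPow {k : ℕ} {g : P} (hg : Rep 11 1782 k g) {j : ℕ} (hj : j < 2) :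
    Rep 11 1782 (twoPow k j) (g ^ j) := by
  match j, hj with
  | 0, _ => rw [twoPow, if_pos (by decide), pow_zero]; exact rep_one hw
  | 1, _ => rw [twoPow, if_neg (by decide), pow_one]; exact hg

theorem eq_of_tuple {g c e : P} {o : ℕ} {L : List (ℕ × List ℕ)} {T : List ℕ} {t : Tree}
    (hT : T.length = o) (hrep : ∀ k < o, Rep 11 1782 (T.getD k 0) (g ^ k))
    (hsig : sigCheck 2 1782 cod (L.flatMap fun e => T.map fun p => lk 11 p e.1) t = true)
    (hc : c ∈ pairStab cod) (he : e ∈ pairStab cod) (hcg : Commute c g) (heg : Commute e g)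
    {ys : List (Fin 1782)} (hys : ys.map Fin.val = L.map Prod.fst)
    (heq : ∀ y ∈ ys, (c y : ℕ) = (e y : ℕ)) : c = e := by
  refine eq_of_agree hsig hc he fun q hq => ?_
  rw [List.mem_flatMap] at hq
  obtain ⟨d, hd, hq⟩ := hq
  obtain ⟨p, hp, rfl⟩ := List.mem_map.1 hq
  obtain ⟨k, hk, rfl⟩ := List.getElem_of_mem hp
  have hd' : d.1 ∈ ys.map Fin.val := by rw [hys]; exact List.mem_map.2 ⟨d, hd, rfl⟩
  obtain ⟨y, hy, hyd⟩ := List.mem_map.1 hd'
  refine ⟨(g ^ k) y, ?_, ?_⟩
  · rw [← hyd, ← List.getD_eq_getElem _ 0 hk]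
    exact (hrep k (hT ▸ hk) y).symm
  · have h1 := DFunLike.congr_fun (hcg.pow_right k).eq y
    have h2 := DFunLike.congr_fun (heg.pow_right k).eq y
    rw [Equiv.Perm.mul_apply, Equiv.Perm.mul_apply] at h1 h2
    rw [h1, h2, show c y = e y from Fin.ext (heq y hy)]

theorem cent_A_stab {c : P} (hc : c ∈ Stab) (hca : Commute c pA) :
    ∃ i < 11, ∃ l < 2, c = pA ^ i * pS ^ l := by
  have hcod := stab_le_cod hc
  obtain ⟨ys, h1, h2⟩ := CentDfs.dfs_spec pows.2.2.1 (fun k hk => rep_aPow hk) hcod hca candA [] []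
    candA_ok.1 dfsA_ok (fun e he => Nat.le_of_ble_eq_true (List.all_eq_true.1 candA_ok.2 e he)) rfl
  rw [List.map_nil, List.nil_append] at h1
  simp only [allowA, List.mem_map, List.mem_range] at h2
  obtain ⟨k, hk, hk'⟩ := h2
  refine ⟨k / 2, by omega, k % 2, by omega, eq_of_tuple pows.2.2.1 (fun k hk => rep_aPow hk) sigA_ok hcod
    (stab_le_cod (mul_mem (pow_mem A_stab _) (pow_mem S_stab _))) hca
    (((Commute.refl pA).pow_left _).mul_left (S_A.pow_left _)) h1 ?_⟩
  have hmap : ys.map (fun y : Fin 1782 => (c y : ℕ)) =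
      ys.map (fun y : Fin 1782 => ((pA ^ (k / 2) * pS ^ (k % 2)) y : ℕ)) := by
    rw [← hk', show (candA.map fun e : ℕ × List ℕ =>
        lk 11 (aPows.getD (k / 2) 0) (lk 11 (twoPow ks (k % 2)) e.1)) =
      (candA.map Prod.fst).map (fun x => lk 11 (aPows.getD (k / 2) 0) (lk 11 (twoPow ks (k % 2)) x)) from
        by rw [List.map_map]; rfl, ← h1, List.map_map]
    refine List.map_congr_left fun y _ => ?_
    show lk 11 _ (lk 11 _ (y : ℕ)) = _
    rw [rep_twoPow rep_S (by omega), rep_aPow (by omega)]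
    rfl
  exact List.map_inj_left.1 hmap

theorem cent_N_stab {c : P} (hc : c ∈ Stab) (hcn : Commute c pN) :
    ∃ i < 10, ∃ j < 2, ∃ l < 2, c = pN ^ i * pZ ^ j * pS ^ l := by
  have hcod := stab_le_cod hc
  obtain ⟨ys, h1, h2⟩ := CentDfs.dfs_spec pows.2.2.2 (fun k hk => rep_nPow hk) hcod hcn candN [] []
    candN_ok.1 dfsN_ok (fun e he => Nat.le_of_ble_eq_true (List.all_eq_true.1 candN_ok.2 e he)) rfl
  rw [List.map_nil, List.nil_append] at h1
  simp only [allowN, List.mem_map, List.mem_range] at h2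
  obtain ⟨k, hk, hk'⟩ := h2
  refine ⟨k / 4, by omega, k / 2 % 2, by omega, k % 2, by omega, eq_of_tuple pows.2.2.2 (fun k hk => rep_nPow hk)
    sigN_ok hcod
    (stab_le_cod (mul_mem (mul_mem (pow_mem N_stab _) (pow_mem (H_le_stab Z_mem) _)) (pow_mem S_stab _))) hcn
    ((((Commute.refl pN).pow_left _).mul_left (Z_N.pow_left _)).mul_left (S_N.pow_left _)) h1 ?_⟩
  have hmap : ys.map (fun y : Fin 1782 => (c y : ℕ)) =
      ys.map (fun y : Fin 1782 => ((pN ^ (k / 4) * pZ ^ (k / 2 % 2) * pS ^ (k % 2)) y : ℕ)) := by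
    rw [← hk', show (candN.map fun e : ℕ × List ℕ => lk 11 (nPows.getD (k / 4) 0)
          (lk 11 (twoPow kz (k / 2 % 2)) (lk 11 (twoPow ks (k % 2)) e.1))) =
      (candN.map Prod.fst).map (fun x => lk 11 (nPows.getD (k / 4) 0)
          (lk 11 (twoPow kz (k / 2 % 2)) (lk 11 (twoPow ks (k % 2)) x))) from
        by rw [List.map_map]; rfl, ← h1, List.map_map]
    refine List.map_congr_left fun y _ => ?_
    show lk 11 _ (lk 11 _ (lk 11 _ (y : ℕ))) = _
    rw [rep_twoPow rep_S (by omega), rep_twoPow rep_Z (by omega), rep_nPow (by omega)]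
    rfl
  exact List.map_inj_left.1 hmap

theorem orderOf_A : orderOf pA = 11 := by
  haveI : Fact (Nat.Prime 11) := ⟨by norm_num⟩
  refine orderOf_eq_prime A_pow fun e => points.1 ?_
  have h := rep_A ⟨0, by norm_num⟩
  rw [e] at h
  exact h

theorem S_ne_pow (i : ℕ) : pS ≠ pA ^ i := by
  intro e
  rw [← pow_mod_orderOf, orderOf_A] at e
  have h := List.all_eq_true.1 points.2.1 (i % 11) (List.mem_range.2 (Nat.mod_lt _ (by norm_num)))
  have hz : aPows.getD (i % 11) 0 = aPows.getD (i % 11) 0 := rfl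
  have h1 := rep_aPow (i := i % 11) (Nat.mod_lt _ (by norm_num)) ⟨0, by norm_num⟩
  rw [← e, ← rep_S ⟨0, by norm_num⟩] at h1
  simp only [Bool.not_eq_true', beq_eq_false_iff_ne, ne_eq] at h
  exact h h1

theorem N_pow_five : pN ^ 5 ≠ 1 := by
  intro e
  obtain ⟨x, hx, hne⟩ := List.any_eq_true.1 points.2.2
  have h := rep_nPow (i := 5) (by norm_num) ⟨x, List.mem_range.1 hx⟩
  rw [e] at h
  simp only [Bool.not_eq_true', beq_eq_false_iff_ne, ne_eq] at hne
  exact hne h

/-- Powers as a homomorphism. -/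
def powHom {G : Type*} [Group G] (x : G) (k : ℕ) [NeZero k] (h : x ^ k = 1) : Multiplicative (ZMod k) →* G where
  toFun i := x ^ i.toAdd.val
  map_one' := by simp
  map_mul' i j := by rw [← pow_add, toAdd_mul, ZMod.val_add, ← pow_eq_pow_mod _ h]

theorem N_moves {i : ℕ} (hi : i < 10) (hc : Commute (pN ^ i) pA) (h0 : i ≠ 0) : False := by
  have e : ∀ j : ℕ, pN ^ j * pA = pA ^ (2 ^ j) * pN ^ j := by
    intro j
    induction j with
    | zero => simp
    | succ j ih => rw [pow_succ' pN, mul_assoc, ih, ← mul_assoc, conj_A, mul_assoc, pow_succ' 2]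
  have h : pA ^ (2 ^ i) = pA ^ 1 := by
    rw [pow_one]; exact mul_right_cancel ((e i).symm.trans hc.eq)
  rw [pow_eq_pow_iff_modEq, orderOf_A, Nat.ModEq] at h
  revert h
  interval_cases i <;> simp_all

theorem S_notMem : pS ∉ H := by
  intro hS
  haveI : Fact (Nat.Prime 11) := ⟨by norm_num⟩
  let a : H := ⟨pA, A_mem⟩
  let n : H := ⟨pN, N_mem⟩
  let s : H := ⟨pS, hS⟩
  have ha : orderOf a = 11 := (orderOf_injective H.subtype Subtype.coe_injective a).symm.trans orderOf_A
  set Q : Subgroup H := Subgroup.zpowers a with hQ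
  have hQc : Nat.card Q = 11 := by rw [hQ, Nat.card_zpowers, ha]
  set C : Subgroup H := Subgroup.centralizer (Q : Set H) with hC
  set Nr : Subgroup H := Subgroup.normalizer (Q : Set H) with hNr
  have hCle : C ≤ Nr := Subgroup.centralizer_le_normalizer _
  -- the centraliser has at most 22 elements
  have hCcard : Nat.card C ≤ 22 := by
    refine (Nat.card_le_card_of_surjective
      (fun p : Fin 11 × Fin 2 => (⟨a ^ (p.1 : ℕ) * s ^ (p.2 : ℕ), ?_⟩ : C)) fun c => ?_).trans_eq (by simp)
    · refine mul_mem (pow_mem ?_ _) (pow_mem ?_ _) <;>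
        rw [hC, hQ, Subgroup.zpowers_eq_closure, Subgroup.centralizer_closure,
          Subgroup.mem_centralizer_singleton_iff]
      exact Subtype.ext S_A.eq
    · have hm : Commute (c : H) a := Subgroup.mem_centralizer_iff.1 c.2 a (Subgroup.mem_zpowers a) |>.symm
      obtain ⟨i, hi, l, hl, e⟩ := cent_A_stab (H_le_stab (c : H).2) (congrArg Subtype.val hm.eq)
      exact ⟨(⟨i, hi⟩, ⟨l, hl⟩), Subtype.ext (Subtype.ext e.symm)⟩
  -- the normaliser has at most 220 elements
  let f : Nr →* MulAut Q := Q.normalizerMonoidHom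
  have hker : Nat.card f.ker ≤ 22 := by
    rw [show f.ker = (Subgroup.centralizer (Q : Set H)).subgroupOf Nr from Subgroup.normalizerMonoidHom_ker _,
      Nat.card_congr (Subgroup.subgroupOfEquivOfLe hCle).toEquiv]
    exact hCcard
  have himg : Nat.card f.range ≤ 10 := by
    haveI : IsCyclic Q := isCyclic_of_prime_card hQc
    refine (Subgroup.card_le_card_group f.range).trans ?_
    rw [IsCyclic.card_mulAut, hQc]
    decide
  have hNle : Nat.card Nr ≤ 220 := by
    have h := f.ker.card_mul_index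
    rw [Subgroup.index_ker] at h
    rw [← h]
    exact Nat.mul_le_mul hker himg
  -- it contains elements of order 11, 10 and a second involution
  have hdiv : 220 ∣ Nat.card Nr := by
    have haN : a ∈ Nr := Subgroup.le_normalizer (Subgroup.mem_zpowers a)
    have hnN : n ∈ Nr := by
      rw [hNr, Subgroup.mem_normalizer_iff]
      intro x
      have hconj : MulAut.conj n a = a ^ 2 := by
        rw [MulAut.conj_apply, mul_inv_eq_iff_eq_mul]; exact Subtype.ext N_A
      have hmap : Q.map (MulAut.conj n).toMonoidHom = Q := by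
        refine Subgroup.eq_of_le_of_card_ge ?_ (Nat.card_congr
          (Q.equivMapOfInjective _ (MulAut.conj n).injective).toEquiv).le
        rw [hQ, MonoidHom.map_zpowers, MulEquiv.coe_toMonoidHom, hconj, Subgroup.zpowers_le]
        exact pow_mem (Subgroup.mem_zpowers a) 2
      constructor
      · intro hx
        rw [← hmap]
        exact ⟨x, hx, rfl⟩
      · intro hx
        rw [← hmap] at hx
        obtain ⟨y, hy, e⟩ := hx
        have e' : MulAut.conj n y = MulAut.conj n x := e
        exact (MulAut.conj n).injective e' ▸ hy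
    have hsN : s ∈ Nr := hCle (by
      rw [hC, hQ, Subgroup.zpowers_eq_closure, Subgroup.centralizer_closure,
        Subgroup.mem_centralizer_singleton_iff]
      exact Subtype.ext S_A.eq)
    let K : Subgroup H := Subgroup.closure {n, s}
    have hKN : K ≤ Nr := (Subgroup.closure_le _).2 (by rintro x (rfl | rfl) <;> assumption)
    have h11 : 11 ∣ Nat.card Nr := by
      have := Nr.orderOf_dvd_natCard haN
      rwa [ha] at this
    have h20 : 20 ∣ Nat.card Nr := by
      let g : Multiplicative (ZMod 10) × Multiplicative (ZMod 2) →* H :=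
        MonoidHom.noncommCoprod (powHom n 10 (Subtype.ext N_pow)) (powHom s 2 (Subtype.ext (by
          rw [Subgroup.coe_pow, pow_two]; exact S_sq))) fun x y => by
          simp only [powHom, MonoidHom.coe_mk, OneHom.coe_mk]
          exact ((show Commute n s from Subtype.ext S_N.eq.symm).pow_left _).pow_right _
      have hg : Function.Injective g := by
        rw [injective_iff_map_eq_one]
        rintro ⟨x, y⟩ hxy
        have e : pN ^ x.toAdd.val * pS ^ y.toAdd.val = 1 := congrArg Subtype.val hxy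
        have hy : y.toAdd.val = 0 := by
          by_contra h0
          have h1 : y.toAdd.val = 1 := by have := y.toAdd.val_lt; omega
          rw [h1, pow_one] at e
          have hc : Commute (pN ^ x.toAdd.val) pA := by
            rw [eq_inv_of_mul_eq_one_left e]
            exact S_A.inv_left
          exact N_moves (ZMod.val_lt _) hc (fun h => by
            rw [h, pow_zero, one_mul] at e
            exact S_ne_pow 0 (by rw [e, pow_zero]))
        rw [hy, pow_zero, mul_one] at e
        have hx : x.toAdd.val = 0 := by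
          by_contra h0
          exact N_moves (ZMod.val_lt _) (by rw [e]; exact Commute.one_left _) h0
        exact Prod.ext (toAdd_eq_zero.1 ((ZMod.val_eq_zero _).1 hx))
          (toAdd_eq_zero.1 ((ZMod.val_eq_zero _).1 hy))
      have hcard : Nat.card g.range = 20 := by
        rw [← Nat.card_congr (MonoidHom.ofInjective hg).toEquiv, Nat.card_prod]
        simp
      rw [← hcard]
      refine Subgroup.card_dvd_of_le ?_
      rintro _ ⟨p, rfl⟩
      simp only [g, MonoidHom.noncommCoprod_apply, powHom, MonoidHom.coe_mk, OneHom.coe_mk]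
      exact mul_mem (pow_mem hnN _) (pow_mem hsN _)
    exact (show Nat.Coprime 11 20 by norm_num).mul_dvd_of_dvd_of_dvd h11 h20
  have hN220 : Nat.card Nr = 220 := le_antisymm hNle (Nat.le_of_dvd Nat.card_pos hdiv)
  let Sy : Sylow 11 H := Sylow.ofCard Q (by
    rw [hQc, H_spec.2, ← Nat.primeFactorsList_count_eq]
    simp)
  have h1 := card_sylow_modEq_one 11 H
  have h2 := Sy.card_eq_index_normalizer
  have h3 := Nr.card_mul_index
  rw [H_spec.2, hN220] at h3
  rw [h2] at h1
  change Nr.index ≡ 1 [MOD 11] at h1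
  rw [show Nr.index = 2037934080 by omega, Nat.ModEq] at h1
  norm_num at h1

theorem cent_A {c : P} (hc : c ∈ H) (hca : Commute c pA) : ∃ i < 11, c = pA ^ i := by
  obtain ⟨i, hi, l, hl, e⟩ := cent_A_stab (H_le_stab hc) hca
  refine ⟨i, hi, ?_⟩
  match l, hl with
  | 0, _ => rwa [pow_zero, mul_one] at e
  | 1, _ =>
    refine absurd ?_ S_notMem
    rw [pow_one] at e
    rw [show pS = (pA ^ i)⁻¹ * c by rw [e, inv_mul_cancel_left]]
    exact mul_mem (inv_mem (pow_mem A_mem i)) hc

theorem cent_N {c : P} (hc : c ∈ H) (hcn : Commute c pN) : ∃ i < 10, ∃ j < 2, c = pN ^ i * pZ ^ j := by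
  obtain ⟨i, hi, j, hj, l, hl, e⟩ := cent_N_stab (H_le_stab hc) hcn
  refine ⟨i, hi, j, hj, ?_⟩
  match l, hl with
  | 0, _ => rwa [pow_zero, mul_one] at e
  | 1, _ =>
    refine absurd ?_ S_notMem
    rw [pow_one] at e
    rw [show pS = (pN ^ i * pZ ^ j)⁻¹ * c by rw [e, inv_mul_cancel_left]]
    exact mul_mem (inv_mem (mul_mem (pow_mem N_mem i) (pow_mem Z_mem j))) hc

end CfsgLib.Sporadic.OutCert.Suz
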