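import Cfsg.Agent.Lib.Sporadic.OutCert.CentDfs
import Cfsg.Agent.Lib.Sporadic.OutCert.Suz.Data
import Cfsg.Agent.Lib.Sporadic.OutCert.Suz.DataRows
import Cfsg.Agent.Lib.Sporadic.OutCert.Suz.DataSlp
import Cfsg.Agent.Lib.Sporadic.OutCert.Suz.DataSig

/-!
The checks on the data for the automorphisms of the Suzuki group.
-/

set_option autoImplicit false
set_option maxRecDepth 100000

namespace CfsgLib.Sporadic.OutCert.Suz

/-- Adjacency. -/
def adjK (i j : ℕ) : Bool := Nat.testBit (rowAt i) j

/-- The class of two points. -/
def cod (i j : ℕ) : ℕ := if Nat.beq i j then 2 else if adjK i j then 1 else 0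

/-- The first places of the blocks. -/
def maskLo : ℕ := (List.range 162).foldl (fun m j => m ||| 2 ^ (11 * j)) 0

/-- The other places of the blocks. -/
def maskHi : ℕ := (2 ^ 1782 - 1) - maskLo

/-- The bits moved along the cycles. -/
def rot (r : ℕ) : ℕ := ((r <<< 1) &&& maskHi) ||| ((r >>> 10) &&& maskLo)

/-- The element of order 11 moves along the blocks. -/
def maskK (v : ℕ) : Bool :=
  if Nat.beq (v % 11) 10 then
    Nat.ble 10 v && (Nat.beq (lk 11 ka v) (v - 10) && (Nat.testBit maskLo (v - 10) && !Nat.testBit maskHi (v - 10)))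
  else Nat.beq (lk 11 ka v) (v + 1) && (Nat.testBit maskHi (v + 1) && !Nat.testBit maskLo (v + 1))

/-- The rows rotate with the element of order 11. -/
def rotK (u : ℕ) : Bool := rowAt (lk 11 ka u) == rot (rowAt u)

/-- A point comes from the first point of its block. -/
def blockK (u : ℕ) : Bool := Nat.beq (lk 11 (aPows.getD (u % 11) 0) (u / 11 * 11)) u

/-- One row is moved correctly. -/
noncomputable def rowK (g u : ℕ) : Bool :=
  allF (fun v => adjK (lk 11 g u) (lk 11 g v) == adjK u v) 1782

/-- A point is the least in its orbit under the element of order 10. -/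
noncomputable def leastK (u : ℕ) : Bool := allF (fun k => Nat.ble u (lk 11 (nPows.getD k 0) u)) 10

/-- A point comes from a least one. -/
noncomputable def coverK (u : ℕ) : Bool :=
  (List.range 10).any fun k => (List.range 10).any fun m =>
    Nat.beq (lk 11 (nPows.getD m 0) (lk 11 (nPows.getD k 0) u)) u && leastK (lk 11 (nPows.getD k 0) u)

/-- The separating points for `a`. -/
def qA : List ℕ := candA.flatMap fun e => aPows.map fun p => lk 11 p e.1

/-- The separating points for `n`. -/
def qN : List ℕ := candN.flatMap fun e => nPows.map fun p => lk 11 p e.1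

/-- The number of a power of an involution. -/
noncomputable def twoPow (k j : ℕ) : ℕ := if Nat.beq j 0 then oneK 11 1782 else k

/-- The images of the base points allowed for `a`. -/
noncomputable def allowA : List (List ℕ) :=
  (List.range 22).map fun k => candA.map fun e => lk 11 (aPows.getD (k / 2) 0) (lk 11 (twoPow ks (k % 2)) e.1)

/-- The images of the base points allowed for `n`. -/
noncomputable def allowN : List (List ℕ) :=
  (List.range 40).map fun k => candN.map fun e =>
    lk 11 (nPows.getD (k / 4) 0) (lk 11 (twoPow kz (k / 2 % 2)) (lk 11 (twoPow ks (k % 2)) e.1))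

/-- The factors of the test. -/
noncomputable def testWord (i j : ℕ) : List ℕ :=
  [aPows.getD 1 0, nPows.getD 1 0, kb, nPows.getD i 0, twoPow kz j]

end CfsgLib.Sporadic.OutCert.Suz
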