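import Cfsg.Agent.Lib.Sporadic.OutCert.Suz.Cent
import Cfsg.Agent.Lib.Sporadic.OutCert.Out

/-!
The Suzuki group has exactly two classes of automorphisms modulo inner ones.
-/

set_option autoImplicit false
set_option maxRecDepth 10000

namespace CfsgLib.Sporadic.OutCert.Suz

open Cfsg

attribute [local irreducible] lk pkF allF compK oneK cod rowAt ka kai kn kni kb kbi kz ks aPows nPows

/-- The element of order 11 in the group. -/
noncomputable def hA : H := ⟨pA, A_mem⟩

/-- The element of order 10 in the group. -/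
noncomputable def hN : H := ⟨pN, N_mem⟩

/-- The third generator in the group. -/
noncomputable def hB : H := ⟨pB, B_mem⟩

/-- The involution commuting with the element of order 10. -/
noncomputable def hZ : H := ⟨pZ, Z_mem⟩

theorem orderOf_hA : orderOf hA = 11 := by
  rw [← orderOf_injective H.subtype Subtype.coe_injective]
  exact orderOf_A

theorem hA_pow : hA ^ 11 = 1 := Subtype.ext A_pow

theorem conj_hN (k m : ℕ) : hN ^ k * hA ^ m * (hN ^ k)⁻¹ = hA ^ (m * 2 ^ k) := by
  have h1 : MulAut.conj hN hA = hA ^ 2 := by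
    rw [MulAut.conj_apply, mul_inv_eq_iff_eq_mul]; exact Subtype.ext N_A
  induction k generalizing m with
  | zero => simp
  | succ k ih =>
    calc hN ^ (k + 1) * hA ^ m * (hN ^ (k + 1))⁻¹
        = MulAut.conj hN (hN ^ k * hA ^ m * (hN ^ k)⁻¹) := by
          rw [MulAut.conj_apply, pow_succ']; group
      _ = hA ^ (m * 2 ^ (k + 1)) := by rw [ih, map_pow, h1, ← pow_mul]; congr 1; ring

theorem exponents : ∀ j < 11, 0 < j → ∃ k < 10, j * 2 ^ k % 11 = 1 := by decide +kernel

theorem closure_gen : Subgroup.closure ({hA, hN, hB} : Set H) = ⊤ := by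
  apply Subgroup.map_injective H.subtype_injective
  rw [MonoidHom.map_closure, ← MonoidHom.range_eq_map, Subgroup.range_subtype]
  simp only [Set.image_insert_eq, Set.image_singleton]
  rfl

theorem swap (l : ℕ) : hA ^ l * hN = hN * hA ^ (6 * l) := by
  have h := conj_hN 1 (6 * l)
  rw [pow_one, pow_one, mul_inv_eq_iff_eq_mul] at h
  rw [h, show 6 * l * 2 = 11 * l + l by ring, pow_add, pow_mul, hA_pow, one_pow, one_mul]

/-- Conjugation by the outer involution preserves the group. -/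
theorem map_H : H.map (MulAut.conj pS).toMonoidHom = H := by
  have hS : pS⁻¹ = pS := inv_eq_of_mul_eq_one_left S_sq
  have hA' : MulAut.conj pS pA = pA := by
    rw [MulAut.conj_apply, S_A.eq, mul_inv_cancel_right]
  have hN' : MulAut.conj pS pN = pN := by
    rw [MulAut.conj_apply, S_N.eq, mul_inv_cancel_right]
  have hB' : MulAut.conj pS pB = pB * pN ^ 5 := by
    rw [MulAut.conj_apply, S_B, mul_inv_cancel_right]
  have h1 : H.map (MulAut.conj pS).toMonoidHom ≤ H := by
    rw [H, MonoidHom.map_closure, Subgroup.closure_le]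
    rintro _ ⟨x, (rfl | rfl | rfl), rfl⟩
    · rw [MulEquiv.coe_toMonoidHom, hA']; exact A_mem
    · rw [MulEquiv.coe_toMonoidHom, hN']; exact N_mem
    · rw [MulEquiv.coe_toMonoidHom, hB']; exact mul_mem B_mem (pow_mem N_mem 5)
  refine le_antisymm h1 fun x hx => ?_
  refine ⟨MulAut.conj pS x, h1 ⟨x, hx, rfl⟩, ?_⟩
  show MulAut.conj pS (MulAut.conj pS x) = x
  rw [← MulAut.mul_apply, ← map_mul, S_sq, map_one, MulAut.one_apply]

/-- The outer automorphism. -/
noncomputable def sigma : MulAut H :=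
  ((MulAut.conj pS).subgroupMap H).trans (MulEquiv.subgroupCongr map_H)

theorem sigma_apply (x : H) : ((sigma x : H) : P) = pS * (x : P) * pS⁻¹ := rfl

theorem sigma_A : sigma hA = hA := by
  refine Subtype.ext ((sigma_apply hA).trans ?_)
  show pS * pA * pS⁻¹ = pA
  rw [S_A.eq, mul_inv_cancel_right]

theorem sigma_N : sigma hN = hN := by
  refine Subtype.ext ((sigma_apply hN).trans ?_)
  show pS * pN * pS⁻¹ = pN
  rw [S_N.eq, mul_inv_cancel_right]

theorem sigma_B : sigma hB = hB * hN ^ 5 := by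
  refine Subtype.ext ((sigma_apply hB).trans ?_)
  show pS * pB * pS⁻¹ = pB * pN ^ 5
  rw [S_B, mul_inv_cancel_right]

theorem sigma_notInn : sigma ∉ Inn H := by
  rintro ⟨h, hh⟩
  have hfix : ∀ x, sigma x = h * x * h⁻¹ := fun x => by rw [← hh]; rfl
  have hca : Commute (h : P) pA :=
    congrArg Subtype.val (mul_inv_eq_iff_eq_mul.1 ((hfix hA).symm.trans sigma_A))
  have hcn : Commute (h : P) pN :=
    congrArg Subtype.val (mul_inv_eq_iff_eq_mul.1 ((hfix hN).symm.trans sigma_N))
  obtain ⟨i, hi, e⟩ := cent_A h.2 hca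
  rw [e] at hcn
  have h2 : pA ^ i = pA ^ (2 * i) := mul_right_cancel (hcn.eq.trans (conj_A i))
  have hi0 : i = 0 := by
    rw [pow_eq_pow_iff_modEq, orderOf_A, Nat.ModEq] at h2
    omega
  have hh1 : h = 1 := Subtype.ext (by rw [e, hi0, pow_zero]; rfl)
  have hb := hfix hB
  rw [hh1, one_mul, inv_one, mul_one, sigma_B] at hb
  exact N_pow_five (congrArg Subtype.val (mul_eq_left.1 hb))

theorem test_eq {i j : ℕ} (hi : i < 10) (hj : j < 2) :
    testK 11 1782 (testWord i j) 10 = true ↔ (hA * hN * (hB * (hN ^ i * hZ ^ j))) ^ 10 = 1 := by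
  have hAp := rep_aPow (i := 1) (by norm_num)
  have hNp := rep_nPow (i := 1) (by norm_num)
  rw [pow_one] at hAp hNp
  rw [testWord, test_iff (List.Forall₂.cons hAp (List.Forall₂.cons hNp (List.Forall₂.cons rep_B
    (List.Forall₂.cons (rep_nPow hi) (List.Forall₂.cons (rep_twoPow rep_Z hj) List.Forall₂.nil)))))]
  simp only [List.prod_cons, List.prod_nil, mul_one]
  constructor
  · intro h
    refine Subtype.ext ?_
    rw [Subgroup.coe_pow, Subgroup.coe_one, ← h]
    simp only [Subgroup.coe_mul, Subgroup.coe_pow, mul_assoc]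
    rfl
  · intro h
    rw [show (1 : P) = ((1 : H) : P) from rfl, ← h]
    simp only [Subgroup.coe_mul, Subgroup.coe_pow, mul_assoc]
    rfl

theorem classes (α : MulAut H) : α ∈ Inn H ∨ ∃ γ ∈ Inn H, α = γ * sigma := by
  haveI : Fact (Nat.Prime 11) := ⟨by norm_num⟩
  obtain ⟨g, j, hj0, hj, hg⟩ := exists_conj_pow (p := 11) (G := H) (by rw [H_spec.2]; norm_num) orderOf_hA
    ((MulEquiv.orderOf_eq α hA).trans orderOf_hA)
  obtain ⟨k, -, hk⟩ := exponents j hj hj0
  have hm : (MulAut.conj (hN ^ k * g) * α) hA = hA := by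
    calc (MulAut.conj (hN ^ k * g) * α) hA = hN ^ k * (g * α hA * g⁻¹) * (hN ^ k)⁻¹ := by
          rw [MulAut.mul_apply, MulAut.conj_apply]; group
      _ = hA := by rw [hg, conj_hN, ← pow_mod_orderOf, orderOf_hA, hk, pow_one]
  suffices h : ∀ δ : MulAut H, δ hA = hA → δ ∈ Inn H ∨ ∃ γ ∈ Inn H, δ = γ * sigma by
    have hc : MulAut.conj (hN ^ k * g) ∈ Inn H := ⟨_, rfl⟩
    rcases h _ hm with h' | ⟨γ, hγ, e⟩
    · left
      have := mul_mem (inv_mem hc) h'
      rwa [inv_mul_cancel_left] at this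
    · exact Or.inr ⟨(MulAut.conj (hN ^ k * g))⁻¹ * γ, mul_mem (inv_mem hc) hγ,
        by rw [mul_assoc, ← e, inv_mul_cancel_left]⟩
  clear hm hk hg hj hj0 g j k α
  intro δ hm
  obtain ⟨i, -, hi⟩ : ∃ i < 11, δ hN = hN * hA ^ i := by
    have hrel : hN * hA = hA ^ 2 * hN := Subtype.ext N_A
    have h8 : δ hN * hA = hA ^ 2 * δ hN := by
      have := congrArg δ hrel
      rwa [map_mul, map_mul, map_pow, hm] at this
    have hc : Commute (hN⁻¹ * δ hN) hA := by
      have h6 : hN⁻¹ * hA ^ 2 = hA * hN⁻¹ := by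
        rw [eq_mul_inv_iff_mul_eq, mul_assoc, ← hrel, inv_mul_cancel_left]
      show hN⁻¹ * δ hN * hA = hA * (hN⁻¹ * δ hN)
      rw [mul_assoc, h8, ← mul_assoc, h6, mul_assoc]
    obtain ⟨i, hi, e⟩ := cent_A (hN⁻¹ * δ hN).2 (congrArg Subtype.val hc.eq)
    refine ⟨i, hi, ?_⟩
    rw [show hA ^ i = hN⁻¹ * δ hN from Subtype.ext e.symm, mul_inv_cancel_left]
  let ε := MulAut.conj (hA ^ (2 * i)) * δ
  have eA : ε hA = hA := by
    rw [MulAut.mul_apply, hm, MulAut.conj_apply, ((Commute.refl hA).pow_left _).eq, mul_inv_cancel_right]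
  have eN : ε hN = hN := by
    rw [MulAut.mul_apply, hi, MulAut.conj_apply, ← mul_assoc, swap, mul_assoc hN, ← pow_add,
      show 6 * (2 * i) + i = 11 * i + 2 * i by ring, pow_add, pow_mul, hA_pow, one_pow, one_mul,
      mul_inv_cancel_right]
  obtain ⟨p, hp, q, hq, eB⟩ : ∃ p < 10, ∃ q < 2, ε hB = hB * (hN ^ p * hZ ^ q) := by
    have hrel : hB * hN = hN ^ 3 * hB := Subtype.ext B_N
    have h8 : ε hB * hN = hN ^ 3 * ε hB := by
      have := congrArg ε hrel
      rwa [map_mul, map_mul, map_pow, eN] at this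
    have hc : Commute (hB⁻¹ * ε hB) hN := by
      have h6 : hB⁻¹ * hN ^ 3 = hN * hB⁻¹ := by
        rw [eq_mul_inv_iff_mul_eq, mul_assoc, ← hrel, inv_mul_cancel_left]
      show hB⁻¹ * ε hB * hN = hN * (hB⁻¹ * ε hB)
      rw [mul_assoc, h8, ← mul_assoc, h6, mul_assoc]
    obtain ⟨p, hp, q, hq, e⟩ := cent_N (hB⁻¹ * ε hB).2 (congrArg Subtype.val hc.eq)
    refine ⟨p, hp, q, hq, ?_⟩
    rw [show hN ^ p * hZ ^ q = hB⁻¹ * ε hB from Subtype.ext e.symm, mul_inv_cancel_left]
  have hcase : (p = 0 ∧ q = 0) ∨ (p = 5 ∧ q = 0) := by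
    have h0 := (test_eq (i := 0) (j := 0) (by norm_num) (by norm_num)).1 test_ok.1
    rw [pow_zero, pow_zero, one_mul, mul_one] at h0
    have h1 := congrArg ε h0
    rw [map_pow, map_mul, map_mul, eA, eN, eB, map_one] at h1
    have h2 := (test_eq hp hq).2 h1
    have h3 := List.all_eq_true.1 (List.all_eq_true.1 test_ok.2 p (List.mem_range.2 hp)) q (List.mem_range.2 hq)
    rw [h2] at h3
    simpa using h3
  have ext' : ∀ τ : MulAut H, τ hA = hA → τ hN = hN → τ hB = ε hB → ε = τ := by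
    intro τ t1 t2 t3
    have h : Set.EqOn ε.toMonoidHom τ.toMonoidHom ({hA, hN, hB} : Set H) := by
      rintro x (rfl | rfl | rfl)
      · exact eA.trans t1.symm
      · exact eN.trans t2.symm
      · exact t3.symm
    exact MulEquiv.ext fun x => DFunLike.congr_fun (MonoidHom.eq_of_eqOn_dense closure_gen h) x
  rcases hcase with ⟨rfl, rfl⟩ | ⟨rfl, rfl⟩
  · left
    have he : ε = 1 := ext' 1 rfl rfl (by rw [eB, pow_zero, pow_zero, one_mul, mul_one]; rfl)
    rw [show δ = (MulAut.conj (hA ^ (2 * i)))⁻¹ from eq_inv_of_mul_eq_one_right he]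
    exact inv_mem ⟨_, rfl⟩
  · right
    have he : ε = sigma := ext' sigma sigma_A sigma_N (by rw [eB, pow_zero, mul_one, sigma_B])
    exact ⟨(MulAut.conj (hA ^ (2 * i)))⁻¹, inv_mem ⟨_, rfl⟩, by rw [← he, inv_mul_cancel_left]⟩

theorem card_out : Nat.card (Out Cfsg.Spor.Suz) = 2 := by
  classical
  obtain ⟨e⟩ := H_spec.1
  rw [card_out_congr e]
  let f : Bool → Out H := fun b => if b then QuotientGroup.mk sigma else 1
  have hf : Function.Bijective f := by
    refine ⟨?_, fun x => ?_⟩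
    · have hne : (QuotientGroup.mk sigma : Out H) ≠ 1 := fun h =>
        sigma_notInn ((QuotientGroup.eq_one_iff sigma).1 h)
      intro a b hab
      cases a <;> cases b
      · rfl
      · exact absurd hab.symm hne
      · exact absurd hab hne
      · rfl
    · obtain ⟨α, rfl⟩ := QuotientGroup.mk_surjective x
      rcases classes α with h | ⟨γ, hγ, rfl⟩
      · exact ⟨false, ((QuotientGroup.eq_one_iff α).2 h).symm⟩
      · refine ⟨true, ?_⟩
        show (QuotientGroup.mk sigma : Out H) = QuotientGroup.mk (γ * sigma)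
        rw [QuotientGroup.mk_mul, (QuotientGroup.eq_one_iff γ).2 hγ, one_mul]
  rw [← Nat.card_congr (Equiv.ofBijective f hf)]
  simp

end CfsgLib.Sporadic.OutCert.Suz
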